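import Groth.Agent.L29.DCoh.QCohColim
import Groth.Agent.L29.DCoh.RpushAcyclic
import Groth.Agent.L24.RpushBC.Main
import Groth.Agent.S0458

/-!
On a Noetherian scheme of finite dimension `Rf_*` has finite cohomological dimension on all modules.
-/

set_option autoImplicit false
set_option backward.defeqAttrib.useBackward true
set_option backward.isDefEq.respectTransparency false
set_option backward.isDefEq.respectTransparency.types false

universe u

open CategoryTheory CategoryTheory.Limits AlgebraicGeometry DerivedCategory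

attribute [local instance] HasDerivedCategory.standard

namespace Groth.Lead.ProjAll

open Groth.L10 Groth.L29.DC

variable {X S : Scheme.{u}}

theorem hu_eq_zero [IsNoetherian X] (d : ℕ) (hd : topologicalKrullDim X ≤ d)
    (F : Groth.L17.AbSheaf X.toTopCat) (U : X.Opens) (k : ℕ) (hk : d < k)
    (x : Groth.L17.HU (X := X.toTopCat) U F k) : x = 0 := by
  obtain ⟨e⟩ := Groth.L17.nonempty_hu_image U.ι (⊤ : (U : Scheme.{u}).Opens) F k
  rw [U.ι_image_top] at e
  haveI : TopologicalSpace.NoetherianSpace (U : Scheme.{u}).toTopCat :=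
    inferInstanceAs (TopologicalSpace.NoetherianSpace (U : Set X))
  have hdU : topologicalKrullDim (U : Scheme.{u}).toTopCat ≤ (d : WithBot ℕ∞) :=
    (Topology.IsInducing.topologicalKrullDim_le U.ι.isOpenEmbedding.isInducing).trans hd
  have hs : Subsingleton (CohTop.H (X := (U : Scheme.{u}).toTopCat) ((Groth.L17.restrAb U.ι).obj F) k) :=
    Groth.Agent.S0458.result d hdU _ k hk
  exact (e.trans (Groth.L17.hTopEquiv (X := (U : Scheme.{u}).toTopCat) _ k).symm).injective
    (@Subsingleton.elim _ hs _ _)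

theorem isZero_Rpush_all (f : X ⟶ S) [IsNoetherian X] [HasInjectiveResolutions X.Modules] (d : ℕ)
    (hd : topologicalKrullDim X ≤ d) (M : X.Modules) (p : ℕ) (hp : d < p) : IsZero ((Coh.Rpush f p).obj M) := by
  refine Groth.L17.PushQCoh.isZero_of_toAb ?_
  obtain ⟨e⟩ := Groth.L17.nonempty_toAb_Rpush_iso f M p
  refine IsZero.of_iso ?_ e
  obtain ⟨i, rfl⟩ : ∃ i, p = i + 1 := ⟨p - 1, by omega⟩
  exact Groth.L24.RpushBC.isZero_RpushAb_of_basis f _ i S.isBasis_affineOpens fun W _ x =>
    hu_eq_zero d hd _ _ _ hp x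

variable (f : X ⟶ S) [DCoh.HasRpush f] [IsNoetherian X] [IsNoetherian S] (dX dS : ℕ)
  (hX : topologicalKrullDim X ≤ dX) (hS : topologicalKrullDim S ≤ dS)

include hX hS in
/-- truncation stability -/
theorem isIso_H_π_all (K : DCoh.D X) (n : ℕ) (j : ℤ) (hj : (dX : ℤ) - (n : ℤ) ≤ j) :
    IsIso ((homologyFunctor S.Modules j).map
      ((DCoh.Rpush f).map ((DerivedCategory.TStructure.t.truncGEπ (-(n : ℤ))).app K))) := by
  haveI := Groth.L17.PushQCoh.hasInjectiveResolutions X
  haveI : HasInjectiveResolutions (ModSite.Mod X.sheaf) := ‹HasInjectiveResolutions X.Modules›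
  haveI : (DerivedCategory.Qh (C := X.Modules)).IsLocalization (HomotopyCategory.quasiIso (ModSite.Mod X.sheaf) (ComplexShape.up ℤ)) :=
    (inferInstance : (DerivedCategory.Qh (C := X.Modules)).IsLocalization (HomotopyCategory.quasiIso X.Modules (ComplexShape.up ℤ)))
  haveI : ((DCoh.pushKh f).totalRightDerived DerivedCategory.Qh (HomotopyCategory.quasiIso X.Modules (ComplexShape.up ℤ))).IsRightDerivedFunctor
      ((DCoh.pushKh f).totalRightDerivedUnit DerivedCategory.Qh (HomotopyCategory.quasiIso X.Modules (ComplexShape.up ℤ)))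
      (HomotopyCategory.quasiIso (ModSite.Mod X.sheaf) (ComplexShape.up ℤ)) := RpushQC.unit_isRightDerived f
  refine ModRDer.isIso_right (ModSite.RMor.ofScheme f)
    ((DCoh.pushKh f).totalRightDerivedUnit DerivedCategory.Qh (HomotopyCategory.quasiIso X.Modules (ComplexShape.up ℤ)))
    (fun _ => True) {V : X.Opens | IsAffineOpen V} {V : S.Opens | IsAffineOpen V} (QRlim.exists_affine_cover X) ?_
    (QRlim.exists_affine_cover S) dX (fun M _ p hp => isZero_Rpush_all f dX hX M p (by omega)) K (fun _ => trivial) n j hj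
    (fun _ => True) ?_ (fun _ _ _ => trivial)
  · intro V hV
    refine ⟨dX, fun T hT => ?_⟩
    obtain ⟨ι, Y, g, h1, h2, -⟩ := RpushQC.exists_affine_refinement V T hT
    exact ⟨ι, Y, g, h1, h2, fun i F _ k hk => subsingleton_of_forall_eq 0 (hu_eq_zero dX hX _ (Y i) k hk)⟩
  · intro V hV
    refine ⟨dS, fun T hT => ?_⟩
    obtain ⟨ι, Y, g, h1, h2, -⟩ := RpushQC.exists_affine_refinement V T hT
    exact ⟨ι, Y, g, h1, h2, fun i F _ k hk => subsingleton_of_forall_eq 0 (hu_eq_zero dS hS _ (Y i) k hk)⟩

local notation "tt" => DerivedCategory.TStructure.t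

include hX hS in
/-- an isomorphism in degrees `≥ a` gives one after `Rf_*` in degrees `≥ dim + a` -/
theorem isIso_H_map_all {K L : DCoh.D X} (φ : K ⟶ L) (m : ℕ)
    (h : ∀ i : ℤ, -(m : ℤ) ≤ i → IsIso ((homologyFunctor X.Modules i).map φ)) (j : ℤ)
    (hj : (dX : ℤ) - (m : ℤ) ≤ j) : IsIso ((homologyFunctor S.Modules j).map ((DCoh.Rpush f).map φ)) := by
  have hK' := isIso_H_π_all f dX dS hX hS K m j hj
  have hL' := isIso_H_π_all f dX dS hX hS L m j hj
  haveI : IsIso (((tt).truncGE (-(m : ℤ))).map φ) := by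
    rw [DerivedCategory.isIso_iff]
    intro i
    by_cases hi : -(m : ℤ) ≤ i
    · have := h i hi
      have := L10.isIso_H_π (-(m : ℤ)) i hi K
      have := L10.isIso_H_π (-(m : ℤ)) i hi L
      refine IsIso.of_isIso_fac_left (f := (homologyFunctor X.Modules i).map (((tt).truncGEπ (-(m : ℤ))).app K))
        (h := (homologyFunctor X.Modules i).map φ ≫ (homologyFunctor X.Modules i).map (((tt).truncGEπ (-(m : ℤ))).app L)) ?_
      rw [← Functor.map_comp, ← Functor.map_comp]
      exact congrArg _ (((tt).truncGEπ (-(m : ℤ))).naturality φ).symm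
    · exact ⟨0, (isZero_H_GE (-(m : ℤ)) i (by omega) K).eq_of_src _ _,
        (isZero_H_GE (-(m : ℤ)) i (by omega) L).eq_of_src _ _⟩
  refine IsIso.of_isIso_fac_right
    (h := (homologyFunctor S.Modules j).map ((DCoh.Rpush f).map (((tt).truncGEπ (-(m : ℤ))).app K)) ≫
      (homologyFunctor S.Modules j).map ((DCoh.Rpush f).map (((tt).truncGE (-(m : ℤ))).map φ)))
    (f := (homologyFunctor S.Modules j).map ((DCoh.Rpush f).map (((tt).truncGEπ (-(m : ℤ))).app L))) ?_
  simp only [← Functor.map_comp]
  exact congrArg _ (congrArg _ (((tt).truncGEπ (-(m : ℤ))).naturality φ))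

variable [QuasiCompact f] [QuasiSeparated f]

include hX hS in
/-- `H^i Rf_*` commutes with filtered colimits of arbitrary complexes -/
theorem isColimit_G0_all {J : Type u} [SmallCategory J] [IsFiltered J] (C : J ⥤ CochainComplex X.Modules ℤ)
    (c : Cocone C) (hc : IsColimit c) (i : ℤ) : Nonempty (IsColimit ((RpushColim.G0 f i).mapCocone c)) := by
  haveI := Groth.L00.Tensor.grothendieckAbelian_modules X
  haveI := Groth.L00.Tensor.grothendieckAbelian_modules S
  haveI := HomologyColim.preservesColimitsOfShape_homology (A := X.Modules) (J := J) (ComplexShape.up ℤ)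
  let G := RpushColim.G0 f i
  let m : ℕ := ((dX : ℤ) - i).toNat
  let e := ComplexShape.embeddingUpIntGE (-(m : ℤ))
  let D := C ⋙ e.truncGEFunctor X.Modules
  let ρ : C ⟶ D := Functor.whiskerLeft C (e.πTruncGENatTrans X.Modules)
  let θ : c.pt ⟶ colimit D := hc.desc ((Cocone.precompose ρ).obj (colimit.cocone D))
  have hθ : ∀ j, c.ι.app j ≫ θ = ρ.app j ≫ colimit.ι D j := fun j => hc.fac _ j
  have hDge : ∀ j, (DCoh.toD X (D.obj j)).IsGE (-(m : ℤ)) := fun j => by
    haveI : CochainComplex.IsStrictlyGE (D.obj j) (-(m : ℤ)) :=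
      inferInstanceAs ((HomologicalComplex.truncGE (C.obj j) e).IsStrictlySupported e)
    exact (DerivedCategory.isGE_Q_obj_iff _ _).2 inferInstance
  have hρ : ∀ (j : J) (k : ℤ), -(m : ℤ) ≤ k → IsIso (HomologicalComplex.homologyMap (ρ.app j) k) := fun j k hk =>
    (quasiIsoAt_iff_isIso_homologyMap _ _).1 (CochainComplex.quasiIsoAt_πTruncGE (C.obj j) (-(m : ℤ)) k hk)
  have hρ' : ∀ (j : J) (k : ℤ), -(m : ℤ) ≤ k →
      IsIso ((homologyFunctor X.Modules k).map (DerivedCategory.Q.map (ρ.app j))) := fun j k hk => by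
    haveI := hρ j k hk
    exact (NatIso.isIso_map_iff (homologyFunctorFactors X.Modules k) (ρ.app j)).2 this
  have hθ' : ∀ k : ℤ, -(m : ℤ) ≤ k →
      IsIso ((homologyFunctor X.Modules k).map (DerivedCategory.Q.map θ)) := fun k hk => by
    let H := HomologicalComplex.homologyFunctor X.Modules (ComplexShape.up ℤ) k
    haveI : ∀ j, IsIso ((Functor.whiskerRight ρ H).app j) := fun j => hρ j k hk
    haveI := NatIso.isIso_of_isIso_app (Functor.whiskerRight ρ H)
    have he : H.map θ = ((isColimitOfPreserves H hc).coconePointsIsoOfNatIso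
        (isColimitOfPreserves H (colimit.isColimit D)) (asIso (Functor.whiskerRight ρ H))).hom :=
      (isColimitOfPreserves H hc).hom_ext fun j => by
        rw [IsColimit.comp_coconePointsIsoOfNatIso_hom]
        simp only [Functor.mapCocone_ι_app, asIso_hom, Functor.whiskerRight_app, ← Functor.map_comp]
        exact congrArg H.map (hθ j)
    have : IsIso (H.map θ) := by rw [he]; infer_instance
    exact (NatIso.isIso_map_iff (homologyFunctorFactors X.Modules k) θ).2 this
  haveI : ∀ j, IsIso ((Functor.whiskerRight ρ G).app j) := fun j =>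
    isIso_H_map_all f dX dS hX hS (DerivedCategory.Q.map (ρ.app j)) m (hρ' j) i (by simp only [m]; omega)
  haveI := NatIso.isIso_of_isIso_app (Functor.whiskerRight ρ G)
  haveI : IsIso (G.map θ) :=
    isIso_H_map_all f dX dS hX hS (DerivedCategory.Q.map θ) m hθ' i (by simp only [m]; omega)
  obtain ⟨h1⟩ := RpushColim.isColimit_G0 f D (colimit.cocone D) (colimit.isColimit D) (-(m : ℤ)) hDge i
  exact ⟨IsColimit.ofIsoColimit ((IsColimit.precomposeHomEquiv (asIso (Functor.whiskerRight ρ G)) _).symm h1)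
    (Cocone.ext (asIso (G.map θ)) fun j => by
      change G.map (c.ι.app j) ≫ G.map θ = G.map (ρ.app j) ≫ G.map (colimit.ι D j)
      rw [← Functor.map_comp, ← Functor.map_comp, hθ]).symm⟩

open CoproductsFromFiniteFiltered in
include hX hS in
theorem isIso_sigma_desc_all {ι : Type u} (K : ι → DCoh.D X)
    [HasCoproduct K] [HasCoproduct (fun i => (DCoh.Rpush f).obj (K i))] :
    IsIso (Sigma.desc (fun i => (DCoh.Rpush f).map (Sigma.ι K i))) := by
  haveI := Groth.L00.Tensor.grothendieckAbelian_modules X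
  refine RpushColim.isIso_sigma_desc_of f K fun j => ?_
  let C : ι → CochainComplex X.Modules ℤ := fun i => DerivedCategory.Q.objPreimage (K i)
  haveI := RpushColim.additive_Rpush f
  obtain ⟨h⟩ := isColimit_G0_all f dX dS hX hS (liftToFinsetObj (Discrete.functor C)) _
    (isColimitFiniteSubproductsCocone C) j
  exact Coprod.isColimit_cofan_of_finite (RpushColim.G0 f j) C h

end Groth.Lead.ProjAll
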