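import Groth.Agent.Lead.ProjAll.Bound
import Groth.Agent.L29.BC.ProjQC

/-!
The projection formula on Noetherian schemes of finite dimension, for arbitrary complexes upstairs.
-/

set_option autoImplicit false
set_option backward.defeqAttrib.useBackward true
set_option backward.isDefEq.respectTransparency false
set_option backward.isDefEq.respectTransparency.types false

universe u

open CategoryTheory CategoryTheory.Limits CategoryTheory.Pretriangulated AlgebraicGeometry CochainComplex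

attribute [local instance] HasDerivedCategory.standard

namespace Groth.Lead.ProjAll

open Groth.L00 Groth.L29.DC Groth.L29.BC Groth.L29.BC.ProjQC

/-- the derived direct image preserves all colimit cofans -/
theorem isColimit_Rpush_cofan_all {X Y : Scheme.{u}} (g : X ⟶ Y) [QuasiCompact g] [QuasiSeparated g] [DCoh.HasRpush g]
    [IsNoetherian X] [IsNoetherian Y] (dX dY : ℕ) (hX : topologicalKrullDim X ≤ dX) (hY : topologicalKrullDim Y ≤ dY)
    {ι : Type u} {K : ι → DCoh.D X} (c : Cofan K) (hc : IsColimit c) :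
    Nonempty (IsColimit (Cofan.mk ((DCoh.Rpush g).obj c.pt) fun i => (DCoh.Rpush g).map (c.inj i))) := by
  haveI := Gen.hasCoproducts_D X ι
  haveI := Gen.hasCoproducts_D Y ι
  haveI := isIso_sigma_desc_all g dX dY hX hY K
  let e : ∐ K ≅ c.pt := (colimit.isColimit (Discrete.functor K)).coconePointUniqueUpToIso hc
  have he : ∀ i, Sigma.ι K i ≫ e.hom = c.inj i := fun i =>
    IsColimit.comp_coconePointUniqueUpToIso_hom _ _ _
  haveI : IsIso (Sigma.desc fun i => (DCoh.Rpush g).map (c.inj i)) := by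
    rw [show (Sigma.desc fun i => (DCoh.Rpush g).map (c.inj i)) =
      Sigma.desc (fun i => (DCoh.Rpush g).map (Sigma.ι K i)) ≫ (DCoh.Rpush g).map e.hom from
      Sigma.hom_ext _ _ fun i => by rw [Sigma.ι_desc, Sigma.ι_desc_assoc, ← Functor.map_comp, he]]
    infer_instance
  haveI : IsIso (Sigma.desc (Cofan.mk ((DCoh.Rpush g).obj c.pt) fun i => (DCoh.Rpush g).map (c.inj i)).inj) := ‹_›
  exact ⟨Cofan.isColimitOfIsIsoSigmaDesc _⟩

theorem topDim_opens {X : Scheme.{u}} (U : X.Opens) {d : ℕ} (hd : topologicalKrullDim X ≤ d) :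
    topologicalKrullDim (U : Scheme.{u}) ≤ d :=
  (Topology.IsInducing.topologicalKrullDim_le U.ι.isOpenEmbedding.isInducing).trans hd

theorem isNoetherian_opens {X : Scheme.{u}} [AlgebraicGeometry.IsNoetherian X] (U : X.Opens) :
    AlgebraicGeometry.IsNoetherian (U : Scheme.{u}) := by
  haveI : IsLocallyNoetherian (U : Scheme.{u}) := isLocallyNoetherian_of_isOpenImmersion U.ι
  haveI : CompactSpace (U : Scheme.{u}) :=
    inferInstanceAs (CompactSpace (U : Set X))
  exact ⟨⟩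

section

variable {X Y : Scheme.{u}} (f : X ⟶ Y) [QuasiCompact f] [QuasiSeparated f] [IsNoetherian X] [IsNoetherian Y]
  {dX dY : ℕ} (hX : topologicalKrullDim X ≤ dX) (hY : topologicalKrullDim Y ≤ dY)
  (I : CochainComplex X.Modules ℤ) [I.IsKInjective]

variable (V : Y.Opens)

include hX hY in
theorem isColimit_push_cofan_all [DCoh.HasRpush (f ∣_ V)] {ι : Type u} {J' : ι → CochainComplex X.Modules ℤ}
    {J : CochainComplex X.Modules ℤ} [∀ i, (J' i).IsKInjective] [J.IsKInjective] (a : ∀ i, J' i ⟶ J)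
    (h2 : IsColimit (Cofan.mk (DerivedCategory.Q.obj ((ExtZero.rCx (f ⁻¹ᵁ V).ι).obj J))
      fun i => DerivedCategory.Q.map ((ExtZero.rCx (f ⁻¹ᵁ V).ι).map (a i)))) :
    Nonempty (IsColimit (Cofan.mk (DerivedCategory.Q.obj ((ExtZero.rCx V.ι).obj ((Proj.pushCx f).obj J))) fun i =>
      DerivedCategory.Q.map ((ExtZero.rCx V.ι).map ((Proj.pushCx f).map (a i))))) := by
  let g := f ∣_ V
  let ι' := (f ⁻¹ᵁ V).ι
  have w : g ≫ V.ι = ι' ≫ f := morphismRestrict_ι f V
  haveI : QuasiCompact g := IsZariskiLocalAtTarget.restrict ‹QuasiCompact f› V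
  haveI : QuasiSeparated g := IsZariskiLocalAtTarget.restrict ‹QuasiSeparated f› V
  haveI := Groth.L17.PushQCoh.additive_push f
  haveI := Groth.L17.PushQCoh.additive_push g
  haveI := QRlim.enoughKInj (f ⁻¹ᵁ V : Scheme.{u})
  haveI := ExtZero.preservesFiniteLimits V.ι
  haveI := ExtZero.preservesFiniteLimits ι'
  let Φ := ExtZero.rCx V.ι ⋙ DerivedCategory.Q
  let Ψ := ExtZero.rCx ι' ⋙ DerivedCategory.Q
  haveI : AlgebraicGeometry.IsNoetherian (f ⁻¹ᵁ V : Scheme.{u}) := isNoetherian_opens _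
  haveI : AlgebraicGeometry.IsNoetherian (V : Scheme.{u}) := isNoetherian_opens _
  obtain ⟨h4⟩ := isColimit_Rpush_cofan_all g dX dY (topDim_opens _ hX) (topDim_opens _ hY) _ h2
  let η := (DCoh.pushKh g).totalRightDerivedUnit DerivedCategory.Qh
    (HomotopyCategory.quasiIso (f ⁻¹ᵁ V : Scheme.{u}).Modules (ComplexShape.up ℤ))
  let qI := DerivedCategory.quotientCompQhIso (f ⁻¹ᵁ V : Scheme.{u}).Modules
  let qV := DerivedCategory.quotientCompQhIso (V : Scheme.{u}).Modules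
  let E : Proj.pushCx f ⋙ ExtZero.rCx V.ι ≅ ExtZero.rCx ι' ⋙ Proj.pushCx g :=
    DerivedApi.mapCxCompIso (Scheme.Modules.pushforward f) (Scheme.Modules.restrictFunctor V.ι) ≪≫
      NatIso.mapHomologicalComplex (Groth.L17.PushQCoh.pushRestrictIso f V.ι ι' g
        (by rw [Scheme.Opens.opensRange_ι, Scheme.Opens.opensRange_ι]) w) (ComplexShape.up ℤ) ≪≫
      (DerivedApi.mapCxCompIso (Scheme.Modules.restrictFunctor ι') (Scheme.Modules.pushforward g)).symm
  -- the natural comparison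
  let N : Proj.pushCx f ⋙ Φ ⟶ ExtZero.rCx ι' ⋙ DerivedCategory.Q ⋙ DCoh.Rpush g :=
    { app := fun M => DerivedCategory.Q.map (E.hom.app M) ≫
        qV.inv.app ((Proj.pushCx g).obj ((ExtZero.rCx ι').obj M)) ≫
        η.app ((HomotopyCategory.quotient _ _).obj ((ExtZero.rCx ι').obj M)) ≫
        (DCoh.Rpush g).map (qI.hom.app ((ExtZero.rCx ι').obj M))
      naturality := fun M M' m => by
        have h1 := E.hom.naturality m
        have h2 := qV.inv.naturality ((Proj.pushCx g).map ((ExtZero.rCx ι').map m))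
        have h3 := η.naturality ((HomotopyCategory.quotient _ _).map ((ExtZero.rCx ι').map m))
        have h4 := qI.hom.naturality ((ExtZero.rCx ι').map m)
        dsimp at h1 h2 h3 h4 ⊢
        change DerivedCategory.Q.map _ ≫ _ = _
        rw [← Category.assoc, ← Functor.map_comp]
        erw [h1]
        rw [Functor.map_comp]
        simp only [Category.assoc]
        erw [reassoc_of% h2, reassoc_of% h3]
        rw [← Functor.map_comp]
        erw [h4]
        rw [Functor.map_comp]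
        }
  have hN : ∀ (M : CochainComplex X.Modules ℤ) [M.IsKInjective], IsIso (N.app M) := fun M _ => by
    haveI := RpushRes.isKInjective_res ι' M
    haveI : IsIso (η.app ((HomotopyCategory.quotient _ _).obj ((ExtZero.rCx ι').obj M))) :=
      Groth.L10.KInjDerived.isIso_app_quotient (RF := DCoh.Rpush g) η _
    dsimp [N]
    infer_instance
  let α : Discrete.functor (fun i => (Proj.pushCx f ⋙ Φ).obj (J' i)) ≅
      Discrete.functor fun i => (DCoh.Rpush g).obj (Ψ.obj (J' i)) :=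
    Discrete.natIso fun i => @asIso _ _ _ _ (N.app (J' i.as)) (hN (J' i.as))
  haveI := hN J
  exact ⟨IsColimit.ofIsoColimit ((IsColimit.precomposeHomEquiv α _).symm h4)
    (Cofan.ext (asIso (N.app J)).symm fun i => by
      have hn := N.naturality (a i)
      change (N.app (J' i) ≫ (DCoh.Rpush g).map (Ψ.map (a i))) ≫ inv (N.app J) = _
      rw [IsIso.comp_inv_eq]
      exact hn.symm)⟩

include hX hY in
/-- `Good` is closed under coproducts -/
theorem good_coproduct_all {ι : Type u}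
    (F : ι → CochainComplex Y.Modules ℤ) (hK : ∀ i, DCoh.IsKFlat (F i))
    (h : ∀ i, ProjQis.Good f I V.ι (F i)) : ProjQis.Good f I V.ι (∐ F) := by
  intro J _ r _
  haveI := RpushQC.hasRpush (f ∣_ V)
  haveI := ExtZero.preservesFiniteLimits V.ι
  haveI := ExtZero.preservesFiniteLimits (f ⁻¹ᵁ V).ι
  choose J' r' hJ' hr' using fun i => ProjFormulaD.exists_kinj (ProjQis.T f I (F i))
  choose a ha ha' using fun i => haveI := hJ' i; haveI := hr' i; exists_lift f I V (Sigma.ι F i) (r' i) r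
  haveI := preservesColimits_resTensor V ((Proj.pushCx f).obj I) ι
  haveI := preservesColimits_resT f I V ι
  obtain ⟨hS⟩ := isColimit_QL (DCoh.tensorCx.obj ((Proj.pushCx f).obj I) ⋙ ExtZero.rCx V.ι) F
  obtain ⟨h1⟩ := isColimit_QL (Proj.pullCx f ⋙ DCoh.tensorCx.obj I ⋙ ExtZero.rCx (f ⁻¹ᵁ V).ι) F
  haveI : ∀ i, IsIso (DerivedCategory.Q.map ((ExtZero.rCx (f ⁻¹ᵁ V).ι).map (r' i))) := fun i => by
    haveI := hr' i
    exact (DerivedCategory.isIso_Q_map_iff_quasiIso _ _).2 inferInstance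
  haveI : IsIso (DerivedCategory.Q.map ((ExtZero.rCx (f ⁻¹ᵁ V).ι).map r)) :=
    (DerivedCategory.isIso_Q_map_iff_quasiIso _ _).2 inferInstance
  obtain ⟨h2⟩ := isColimit_of_isos h1 (fun i => DerivedCategory.Q.map ((ExtZero.rCx (f ⁻¹ᵁ V).ι).map (r' i)))
    (DerivedCategory.Q.map ((ExtZero.rCx (f ⁻¹ᵁ V).ι).map r)) ha
  obtain ⟨hT⟩ := isColimit_push_cofan_all f hX hY V a h2
  exact @isIso_of_cofans _ _ _ _ _ _ _ _ _ hS hT
    (fun i => DerivedCategory.Q.map ((ExtZero.rCx V.ι).map (ProjQis.cmp f I (F i) (r' i))))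
    (fun i => haveI := hr' i; haveI := hJ' i; h i (J' i) (r' i)) _ ha'

include hX hY in
theorem PV_coproduct_all {ι : Type u}
    (K : ι → DCoh.D (V : Scheme.{u})) [HasCoproduct K] (h : ∀ i, PV f I V (K i)) :
    PV f I V (∐ K) := by
  choose E hE e hg using h
  haveI := Gen.hasCoproducts_D (V : Scheme.{u}) ι
  haveI : PreservesColimitsOfSize.{u, u} (ExtZero.eCx V.ι) := (ExtZero.adjCx V.ι).leftAdjoint_preservesColimits
  have hk := KFlat.coproduct E hE
  obtain ⟨h2⟩ := RpushColim.isColimit_Q_cofan E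
  refine ⟨∐ E, hk, ⟨h2.coconePointUniqueUpToIso (colimit.isColimit (Discrete.functor fun i => DerivedCategory.Q.obj (E i)))
    ≪≫ Sigma.mapIso fun i => (e i).some⟩, ?_⟩
  let c := PreservesCoproduct.iso (ExtZero.eCx V.ι) E
  have hF : ∀ i, DCoh.IsKFlat ((ExtZero.eCx V.ι).obj (E i)) := fun i => ExtZero.isKFlat_eCx V.ι (hE i)
  have hs := good_coproduct_all f hX hY I V (fun i => (ExtZero.eCx V.ι).obj (E i)) hF hg
  haveI : QuasiIso ((ExtZero.rCx V.ι).map c.hom) := inferInstance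
  exact (ProjQis.good_iff f I V.ι c.hom (ExtZero.isKFlat_eCx V.ι hk) (KFlat.coproduct _ hF)).2 hs

include hX hY in
theorem PV_of_qcoh_all
    [IsAffine (V : Scheme.{u})] {M : DCoh.D (V : Scheme.{u})} (hM : DCoh.IsQCohD M) : PV f I V M := by
  let W : Scheme.{u} := V
  obtain ⟨G, hG, hgen, ⟨eG⟩⟩ := exists_unit_generator (V : Scheme.{u})
  haveI := Gen.locallySmall_D (V : Scheme.{u})
  haveI : HasCoproducts.{u} (DCoh.D (V : Scheme.{u})) := Gen.hasCoproducts_D _
  haveI : HasColimitsOfShape (Discrete ℕ) (DCoh.D (V : Scheme.{u})) :=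
    hasColimitsOfShape_of_equivalence (Discrete.equivalence (Equiv.ulift.{u} : ULift.{u} ℕ ≃ ℕ))
  haveI : ∀ (Y : DCoh.D (V : Scheme.{u})) (n : ℤ), Small.{u} (G⟦n⟧ ⟶ Y) := fun Y n => inferInstance
  have hGq := PCQCoh.isQCohD_of_perfect hG
  refine localizing_top (PV f I V) (DCoh.IsQCohD (X := (V : Scheme.{u})))
    (fun e ⟨E, hE, ⟨e'⟩, hg⟩ => ⟨E, hE, ⟨e' ≪≫ e⟩, hg⟩) (fun n => ?_)
    (fun {ι} C _ h => PV_coproduct_all f hX hY I V C h)
    (fun T hT _ _ h₁ h₂ => PV.third f I V T hT h₁ h₂)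
    (fun n => Gen.isQCohD_shift hGq n) (fun {ι} C hC => QCohColim.isQCohD_coproduct C hC) (fun C hC => ?_)
    (fun T hT h₁ h₂ => Gen.isQCohD_third T hT h₁ h₂) (fun n => Gen.cpt_of_perfect (perfect_shift hG n))
    hgen hM
  · let E₀ := (HomologicalComplex.single (V : Scheme.{u}).Modules (ComplexShape.up ℤ) 0).obj
      (Coh.structureModule (V : Scheme.{u}))
    have hk : DCoh.IsKFlat E₀ := KFlat.single _ (isFlat_structureModule _) 0
    let e0 : DerivedCategory.Q.obj E₀ ≅ G :=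
      (((SingleFunctors.evaluation _ _ 0).mapIso
        (DerivedCategory.singleFunctorsPostcompQIso (V : Scheme.{u}).Modules)).app _).symm ≪≫ eG.symm
    exact ⟨E₀⟦n⟧, KFlat.shift _ n hk, ⟨(DerivedCategory.Q.commShiftIso n).app E₀ ≪≫ (CategoryTheory.shiftFunctor _ n).mapIso e0⟩,
      (EvalPerf.shift_int (ProjQis.locProp f I) V.ι hk n).2 (EvalPerf.unit₀ (ProjQis.locProp f I) V.ι)⟩
  · refine isQCohD_of_iso ?_ (QCohColim.isQCohD_coproduct (fun n : ULift.{u} ℕ => C n.down) fun n => hC n.down)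
    exact Sigma.whiskerEquiv (f := fun n : ULift.{u} ℕ => C n.down) (g := C) Equiv.ulift.{u} fun n => Iso.refl _

include hX hY in
theorem isIso_cmp_all
    {P : CochainComplex Y.Modules ℤ} (hP : DCoh.IsKFlat P) (hq : DCoh.IsQCohD (DerivedCategory.Q.obj P))
    {J : CochainComplex X.Modules ℤ} [J.IsKInjective] (r : ProjQis.T f I P ⟶ J) [QuasiIso r] :
    IsIso (DerivedCategory.Q.map (ProjQis.cmp f I P r)) := by
  refine EvalMain.isIso_Q_of_local _ fun y => ?_
  obtain ⟨_, ⟨(V : Y.Opens), hV, rfl⟩, hy, -⟩ := Y.isBasis_affineOpens.exists_subset_of_mem_open (Set.mem_univ y) isOpen_univ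
  haveI : IsAffine (V : Scheme.{u}) := hV
  haveI := ExtZero.preservesFiniteLimits V.ι
  obtain ⟨E, hE, ⟨e⟩, hg⟩ := PV_of_qcoh_all f hX hY I V (M := DerivedCategory.Q.obj ((ExtZero.rCx V.ι).obj P))
    (isQCohD_of_iso ((ExtZero.res V.ι).mapDerivedCategoryFactors.app P) (isQCohD_restrictD V.ι hq))
  haveI := KFlat.quasiIso_rF ((ExtZero.rCx V.ι).obj P)
  haveI : IsIso (DerivedCategory.Q.map ((KFlat.rF _).app ((ExtZero.rCx V.ι).obj P))) :=
    (DerivedCategory.isIso_Q_map_iff_quasiIso _ _).2 (KFlat.quasiIso_rF _)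
  exact ⟨V, hy, (EvalPerf.iff_adjoint (ProjQis.locProp f I) V.ι (KFlat.isKFlat_RF _) hP
    ((KFlat.rF _).app ((ExtZero.rCx V.ι).obj P))).1
      (transfer f I V hE (KFlat.isKFlat_RF _) (e ≪≫ (asIso (DerivedCategory.Q.map
        ((KFlat.rF _).app ((ExtZero.rCx V.ι).obj P)))).symm) hg) J r⟩

omit [I.IsKInjective] in
include hX hY in
/-- the projection formula for complexes with quasi-coherent cohomology -/
theorem nonempty_projection_all [DCoh.HasRpush f] [DCoh.HasLpull f] (E : DCoh.D X)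
    (K : CochainComplex Y.Modules ℤ) (hK : DCoh.IsQCohD (DCoh.toD Y K)) [DCoh.HasLTensorCx K]
    (M : CochainComplex X.Modules ℤ) (hM : Nonempty (DCoh.toD X M ≅ (DCoh.Lpull f).obj (DCoh.toD Y K)))
    [DCoh.HasLTensorCx M] :
    Nonempty ((DCoh.LTensorCx K).obj ((DCoh.Rpush f).obj E) ≅ (DCoh.Rpush f).obj ((DCoh.LTensorCx M).obj E)) := by
  obtain ⟨eM⟩ := hM
  obtain ⟨P, q, hP, -, hq, -⟩ := KFlat.exists_resolution K
  haveI := (DerivedCategory.isIso_Q_map_iff_quasiIso _ q).2 hq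
  haveI : DCoh.HasLTensorCx P := KFlat.hasLTensorCx P
  haveI : DCoh.HasLTensorCx ((Proj.pullCx f).obj P) := KFlat.hasLTensorCx _
  let eq : DerivedCategory.Q.obj P ≅ DerivedCategory.Q.obj K := asIso (DerivedCategory.Q.map q)
  obtain ⟨c₁⟩ := nonempty_LTensorCx_congr eq
  obtain ⟨c₂⟩ := nonempty_LTensorCx_congr ((DerivedApi.objIso (DerivedApi.acyclicKFlat_pullback f) P hP).symm ≪≫
    (DCoh.Lpull f).mapIso eq ≪≫ eM.symm)
  obtain ⟨I, i, hI, hi⟩ := ProjFormulaD.exists_kinj (DerivedCategory.Q.objPreimage E)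
  obtain ⟨J, r, hJ, hr⟩ := ProjFormulaD.exists_kinj (ProjQis.T f I P)
  let eI : E ≅ DerivedCategory.Q.obj I :=
    (DerivedCategory.Q.objObjPreimageIso E).symm ≪≫
      @asIso _ _ _ _ (DerivedCategory.Q.map i) ((DerivedCategory.isIso_Q_map_iff_quasiIso _ i).2 hi)
  obtain ⟨a⟩ := ProjFormulaD.nonempty_Rpush_kinj f I
  obtain ⟨b⟩ := ProjFormulaD.nonempty_Rpush_kinj f J
  haveI := isIso_cmp_all f hX hY I hP (isQCohD_of_iso eq.symm hK) r
  let er : DerivedCategory.Q.obj (ProjQis.T f I P) ≅ DerivedCategory.Q.obj J :=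
    @asIso _ _ _ _ (DerivedCategory.Q.map r) ((DerivedCategory.isIso_Q_map_iff_quasiIso _ r).2 hr)
  exact ⟨(c₁.app _).symm ≪≫ (DCoh.LTensorCx P).mapIso ((DCoh.Rpush f).mapIso eI ≪≫ a) ≪≫
    (Assoc.allIso P hP).app _ ≪≫ asIso (DerivedCategory.Q.map (ProjQis.cmp f I P r)) ≪≫ b.symm ≪≫
    (DCoh.Rpush f).mapIso (er.symm ≪≫ ((Assoc.allIso _ (KFlat.pullback_kflat f P hP)).app I).symm ≪≫
      (DCoh.LTensorCx ((Proj.pullCx f).obj P)).mapIso eI.symm ≪≫ c₂.app E)⟩

end

end Groth.Lead.ProjAll
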